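import Cfsg.Agent.Alperin.Chain
import Cfsg.Agent.Alperin.Centric
import Cfsg.Agent.ZStar.Theorem
import Cfsg.Agent.ZStar.Corollaries
import Cfsg.Agent.Constrained.Basic
import Mathlib.GroupTheory.SchurZassenhaus

/-!
# A weakly closed central 2-element is central modulo `O(G)`

The extension of the Z*-theorem from involutions to 2-elements: by Alperin's theorem the powers of such
an element are weakly closed too, so induction on the order reduces to Glauberman's theorem.
-/

set_option autoImplicit false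

namespace CfsgLib.OddCons48

open Cfsg CfsgLib.Alperin

universe u

variable {G : Type u} [Group G] [Finite G]

/-- Powers of a weakly closed central element are weakly closed. -/
theorem pow_weaklyClosed {p : ℕ} [Fact p.Prime] (S : Sylow p G) {t : G} (htS : t ∈ (S : Subgroup G))
    (hcen : ∀ y ∈ (S : Subgroup G), Commute y t)
    (hwc : ∀ g : G, g * t * g⁻¹ ∈ (S : Subgroup G) → g * t * g⁻¹ = t) (m : ℕ) (g : G)
    (hg : g * t ^ m * g⁻¹ ∈ (S : Subgroup G)) : g * t ^ m * g⁻¹ = t ^ m := by
  have hchain : ∀ {A : Set G} {g' : G}, Chain (IsRadicalStep S) A g' → A = {t ^ m} →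
      g'⁻¹ * t ^ m * g' = t ^ m := by
    intro A g' h
    induction h with
    | nil A => intro _; simp
    | cons A D x g' hD _ _ ih =>
      intro hA'
      have hcent := centric_of_radical S hD.2
      obtain ⟨T, hT, -, -, hx, -⟩ := hD.1
      have hDS : D ≤ (S : Subgroup G) := hT ▸ inf_le_left
      have htD : t ∈ D := hcent ⟨htS, Subgroup.mem_centralizer_iff.2 fun d hd => hcen d (hDS hd)⟩
      have hx' : x⁻¹ * t * x = t := by
        have := hwc x⁻¹ (by
          rw [inv_inv]
          refine hDS ?_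
          simpa using ((Subgroup.mem_normalizer_iff).1 ((Subgroup.normalizer (D : Set G)).inv_mem hx) t).1 htD)
        simpa using this
      have hxm : x⁻¹ * t ^ m * x = t ^ m := by
        have h1 : Commute x t := by
          show x * t = t * x
          conv_lhs => rw [← hx']
          group
        rw [mul_assoc, ← (h1.pow_right m).eq, inv_mul_cancel_left]
      have h2 := ih (by rw [hA', Set.image_singleton, hxm])
      calc (x * g')⁻¹ * t ^ m * (x * g') = g'⁻¹ * (x⁻¹ * t ^ m * x) * g' := by group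
        _ = t ^ m := by rw [hxm, h2]
  obtain ⟨c, hc, g', hg', hgc⟩ := exists_radical_chain S (A := ({t ^ m} : Set G)) (g := g⁻¹)
    (Set.singleton_subset_iff.2 (pow_mem htS m))
    (by rintro _ ⟨a, rfl, rfl⟩; show g⁻¹⁻¹ * t ^ m * g⁻¹ ∈ _; rw [inv_inv]; exact hg)
  have h1 : c⁻¹ * t ^ m * c = t ^ m := by
    rw [mul_assoc, Subgroup.mem_centralizer_iff.1 hc (t ^ m) rfl, inv_mul_cancel_left]
  have hgeq : g = g'⁻¹ * c⁻¹ := by rw [← mul_inv_rev, ← hgc, inv_inv]
  rw [hgeq]
  calc g'⁻¹ * c⁻¹ * t ^ m * (g'⁻¹ * c⁻¹)⁻¹ = g'⁻¹ * (c⁻¹ * t ^ m * c) * g' := by group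
    _ = t ^ m := by rw [h1, hchain hg' rfl]

/-- A central involution adds nothing to `O`. -/
theorem pPrimeCore_quotient_central (hO : pPrimeCore 2 G = ⊥) {s : G} (hs : orderOf s = 2)
    [(Subgroup.zpowers s).Normal] (hsc : s ∈ Subgroup.center G) :
    pPrimeCore 2 (G ⧸ Subgroup.zpowers s) = ⊥ := by
  set f := QuotientGroup.mk' (Subgroup.zpowers s) with hf
  set O := pPrimeCore 2 (G ⧸ Subgroup.zpowers s) with hOdef
  set M := O.comap f with hM
  have hsM : Subgroup.zpowers s ≤ M := fun x hx => by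
    rw [hM, Subgroup.mem_comap, show f x = 1 from (QuotientGroup.eq_one_iff x).2 hx]
    exact one_mem _
  set Z := (Subgroup.zpowers s).subgroupOf M with hZ
  have hZn : Z.Normal := inferInstance
  have hZcard : Nat.card Z = 2 := by
    rw [Nat.card_congr (Subgroup.subgroupOfEquivOfLe hsM).toEquiv, Nat.card_zpowers, hs]
  have hMcard : Nat.card M = 2 * Nat.card O := by
    have h1 : (f.ker.subgroupOf M).index = Nat.card ↥(M.map f) := by
      rw [← Subgroup.relIndex_bot_left, ← Subgroup.relIndex_comap, MonoidHom.comap_bot]; rfl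
    rw [hM, Subgroup.map_comap_eq_self_of_surjective (QuotientGroup.mk'_surjective _), ← hM] at h1
    rw [← h1, ← hZcard, ← Subgroup.card_mul_index Z]
    congr 1
    simp only [hZ, hf, QuotientGroup.ker_mk']
  have hodd : ¬ 2 ∣ Nat.card O := Constrained.pPrimeCore_not_dvd
  have hidx : Z.index = Nat.card O := by
    have := Z.card_mul_index
    rw [hZcard, hMcard] at this
    exact Nat.eq_of_mul_eq_mul_left two_pos this
  obtain ⟨H, hH⟩ := Subgroup.exists_right_complement'_of_coprime (N := Z)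
    (by rw [hZcard, hidx]; exact (Nat.prime_two.coprime_iff_not_dvd).2 hodd)
  have hHcard : Nat.card H = Nat.card O := by
    have := hH.card_mul
    rw [hZcard, hMcard] at this
    exact Nat.eq_of_mul_eq_mul_left two_pos this
  -- `H` is the set of elements of odd order of `M`
  have hmem : ∀ x : M, Odd (orderOf x) → x ∈ H := by
    intro x hx
    obtain ⟨⟨z, h⟩, hzh, -⟩ := hH.existsUnique x
    have hzc : Commute (z : M) (h : M) := Subtype.ext (by
      obtain ⟨k, hk⟩ := Subgroup.mem_zpowers_iff.1 z.2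
      show ((z : M) : G) * ((h : M) : G) = ((h : M) : G) * ((z : M) : G)
      rw [show ((z : M) : G) = s ^ k from hk.symm]
      exact ((Subgroup.zpow_mem _ hsc k : s ^ k ∈ Subgroup.center G).comm _).eq)
    have hz2 : (z : M) ^ 2 = 1 := by
      have h := pow_card_eq_one' (G := Z) (x := z)
      rw [hZcard] at h
      exact_mod_cast congrArg (Subtype.val : Z → M) h
    have h1 : (z : M) ^ orderOf x * (h : M) ^ orderOf x = 1 := by
      rw [← hzc.mul_pow, hzh, pow_orderOf_eq_one]
    obtain ⟨k, hk⟩ := hx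
    have h2 : (z : M) ^ orderOf x = z := by
      rw [hk, pow_succ, pow_mul, hz2, one_pow, one_mul]
    rw [h2] at h1
    have h3 : (z : M) ∈ H := by
      rw [eq_inv_of_mul_eq_one_left h1]
      exact H.inv_mem (H.pow_mem h.2 _)
    rw [← hzh]
    exact H.mul_mem h3 h.2
  have hnorm : (H.map M.subtype).Normal := by
    constructor
    rintro _ ⟨x, hx, rfl⟩ g
    have hgM : g * (x : G) * g⁻¹ ∈ M :=
      (Subgroup.Normal.comap (inferInstance : O.Normal) f).conj_mem _ x.2 g
    refine ⟨⟨_, hgM⟩, hmem _ ?_, rfl⟩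
    rw [← Subgroup.orderOf_coe]
    show Odd (orderOf (g * (x : G) * g⁻¹))
    rw [show orderOf (g * (x : G) * g⁻¹) = orderOf (x : G) from MulEquiv.orderOf_eq (MulAut.conj g) (x : G),
      Subgroup.orderOf_coe, ← Nat.not_even_iff_odd, even_iff_two_dvd]
    exact fun h => hodd (hHcard ▸ h.trans (H.orderOf_dvd_natCard hx))
  have hle := Constrained.le_pPrimeCore_of_not_dvd (p := 2) hnorm (by
    rw [Subgroup.card_map_of_injective M.subtype_injective, hHcard]; exact hodd)
  rw [hO, le_bot_iff, Subgroup.map_eq_bot_iff_of_injective _ M.subtype_injective] at hle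
  rw [← Subgroup.card_eq_one, ← hHcard, hle, Subgroup.card_bot]

/-- The core-free case. -/
theorem mem_center_of_weaklyClosed : ∀ (k : ℕ) (G : Type u) [Group G] [Finite G],
    pPrimeCore 2 G = ⊥ → ∀ (S : Sylow 2 G) (t : G), orderOf t ≤ k → t ∈ (S : Subgroup G) →
      (∀ y ∈ (S : Subgroup G), Commute y t) →
      (∀ g : G, g * t * g⁻¹ ∈ (S : Subgroup G) → g * t * g⁻¹ = t) → t ∈ Subgroup.center G := by
  intro k
  induction k with
  | zero => intro G _ _ _ S t ht; exact absurd (orderOf_pos t) (by omega)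
  | succ k IH =>
  intro G _ _ hO S t ht htS hcen hwc
  by_cases ht1 : t = 1
  · rw [ht1]; exact one_mem _
  obtain ⟨a, ha⟩ := IsPGroup.iff_orderOf.1 S.2 ⟨t, htS⟩
  rw [Subgroup.orderOf_mk] at ha
  cases a with
  | zero => exact absurd (orderOf_eq_one_iff.1 (by simpa using ha)) ht1
  | succ a =>
  set s := t ^ (2 ^ a) with hsdef
  have hs : orderOf s = 2 := by
    rw [hsdef, orderOf_pow' _ (by positivity), ha, Nat.gcd_eq_right (pow_dvd_pow 2 (Nat.le_succ a)),
      pow_succ, Nat.mul_div_cancel_left _ (by positivity)]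
  have hiso : InZStar 2 s :=
    ZStar.inZStar_of_no_fusion hs S (pow_weaklyClosed S htS hcen hwc _)
  have hsc : s ∈ Subgroup.center G := ZStar.mem_center_of_inZStar hO hiso
  haveI hZn : (Subgroup.zpowers s).Normal := ⟨fun n hn x => by
    rw [Subgroup.mem_center_iff.mp (Subgroup.zpowers_le.2 hsc hn) x, mul_inv_cancel_right]; exact hn⟩
  set f := QuotientGroup.mk' (Subgroup.zpowers s) with hf
  have hkerS : Subgroup.zpowers s ≤ (S : Subgroup G) := Subgroup.zpowers_le.2 (pow_mem htS _)
  have hpre : ∀ x : G, f x ∈ (S : Subgroup G).map f → x ∈ (S : Subgroup G) := by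
    rintro x ⟨y, hy, hyx⟩
    have h1 : y⁻¹ * x ∈ Subgroup.zpowers s := QuotientGroup.eq.1 hyx
    simpa using (S : Subgroup G).mul_mem hy (hkerS h1)
  have hlt : orderOf (f t) < orderOf t := by
    have h1 : orderOf (f t) ∣ 2 ^ a := orderOf_dvd_of_pow_eq_one (by
      rw [← map_pow, ← hsdef]; exact (QuotientGroup.eq_one_iff s).2 (Subgroup.mem_zpowers s))
    refine lt_of_le_of_lt (Nat.le_of_dvd (by positivity) h1) ?_
    rw [ha]
    exact Nat.pow_lt_pow_right (by norm_num) (Nat.lt_succ_self a)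
  have hq : f t ∈ Subgroup.center (G ⧸ Subgroup.zpowers s) := by
    refine IH _ (pPrimeCore_quotient_central hO hs hsc)
      (S.mapSurjective (f := f) (QuotientGroup.mk'_surjective _)) (f t) (by omega) ⟨t, htS, rfl⟩ ?_ ?_
    · rintro _ ⟨y, hy, rfl⟩
      exact (hcen y hy).map f
    · intro g hg
      obtain ⟨g, rfl⟩ := QuotientGroup.mk'_surjective (Subgroup.zpowers s) g
      change f g * f t * (f g)⁻¹ ∈ _ at hg
      rw [← map_inv, ← map_mul, ← map_mul] at hg
      show f g * f t * (f g)⁻¹ = f t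
      rw [← map_inv, ← map_mul, ← map_mul, hwc g (hpre _ hg)]
  rw [Subgroup.mem_center_iff]
  intro g
  have h2 : f (g * t * g⁻¹) = f t := by
    rw [map_mul, map_mul, map_inv, Subgroup.mem_center_iff.1 hq (f g), mul_inv_cancel_right]
  have h3 := hwc g (hpre _ (by rw [h2]; exact ⟨t, htS, rfl⟩))
  exact (mul_inv_eq_iff_eq_mul.1 h3)

/-- A weakly closed central 2-element of a Sylow 2-subgroup is central modulo `O(G)`. -/
theorem inZStar_of_weaklyClosed (S : Sylow 2 G) {t : G} (htS : t ∈ (S : Subgroup G))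
    (hcen : ∀ y ∈ (S : Subgroup G), Commute y t)
    (hwc : ∀ g : G, g * t * g⁻¹ ∈ (S : Subgroup G) → g * t * g⁻¹ = t) : InZStar 2 t := by
  intro g
  set K := pPrimeCore 2 G with hK
  set f := QuotientGroup.mk' K with hf
  have hwc' : ∀ g : G ⧸ K, g * f t * g⁻¹ ∈ (S : Subgroup G).map f → g * f t * g⁻¹ = f t := by
    intro g hg
    obtain ⟨g, rfl⟩ := QuotientGroup.mk'_surjective K g
    change f g * f t * (f g)⁻¹ ∈ _ at hg
    rw [← map_inv, ← map_mul, ← map_mul] at hg
    obtain ⟨y, hy, hyx⟩ := hg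
    have h1 : y⁻¹ * (g * t * g⁻¹) ∈ K := QuotientGroup.eq.1 hyx
    have h2 : g * t * g⁻¹ ∈ (S : Subgroup G) ⊔ K := by
      have := mul_mem (Subgroup.mem_sup_left (T := K) hy) (Subgroup.mem_sup_right (S := (S : Subgroup G)) h1)
      simpa [mul_assoc] using this
    have hidx : ¬ 2 ∣ (S : Subgroup G).relIndex ((S : Subgroup G) ⊔ K) := fun h =>
      S.not_dvd_index (h.trans (Subgroup.relIndex_dvd_index_of_le le_sup_left))
    have hp : IsPGroup 2 (Subgroup.zpowers (g * t * g⁻¹)) := by
      rw [show Subgroup.zpowers (g * t * g⁻¹) = (Subgroup.zpowers t).map (MulAut.conj g).toMonoidHom from by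
        rw [MonoidHom.map_zpowers]; rfl]
      exact (S.2.to_le (Subgroup.zpowers_le.2 htS)).map _
    obtain ⟨l, hl, hle⟩ := exists_mem_conj_map_le (le_sup_left : (S : Subgroup G) ≤ (S : Subgroup G) ⊔ K)
      S.2 hidx (Subgroup.zpowers_le.2 h2) hp
    obtain ⟨z, hz, k, hk, rfl⟩ := Subgroup.mem_sup_of_normal_right.1 hl
    have h4 := hle (conj_mem_conj_map (z * k) (Subgroup.mem_zpowers (g * t * g⁻¹)))
    have h5 : (k * g) * t * (k * g)⁻¹ ∈ (S : Subgroup G) := by
      have := (S : Subgroup G).mul_mem ((S : Subgroup G).mul_mem ((S : Subgroup G).inv_mem hz) h4) hz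
      rwa [show z⁻¹ * (z * k * (g * t * g⁻¹) * (z * k)⁻¹) * z = k * g * t * (k * g)⁻¹ by group] at this
    have h6 := congrArg f (hwc _ h5)
    rw [map_mul, map_mul, map_inv, map_mul, show f k = 1 from (QuotientGroup.eq_one_iff k).2 hk, one_mul] at h6
    exact h6
  have hcen' : ∀ y ∈ (S : Subgroup G).map f, Commute y (f t) := by
    rintro _ ⟨y, hy, rfl⟩
    exact (hcen y hy).map f
  have hc := mem_center_of_weaklyClosed (orderOf (f t)) (G ⧸ K) Constrained.pPrimeCore_quotient_pPrimeCore
    (S.mapSurjective (f := f) (QuotientGroup.mk'_surjective _)) (f t) le_rfl ⟨t, htS, rfl⟩ hcen' hwc'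
  apply (QuotientGroup.eq_one_iff _).1
  show f (g * t * g⁻¹ * t⁻¹) = 1
  rw [map_mul, map_mul, map_mul, map_inv, map_inv, Subgroup.mem_center_iff.1 hc (f g), mul_inv_cancel_right,
    mul_inv_cancel]

end CfsgLib.OddCons48
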